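import Cfsg.Agent.CoOneType.CoEval
import Cfsg.Agent.CoOneType.CoFast
import Cfsg.Agent.Co2Type.Mono
import Cfsg.Agent.Prune
set_option linter.all false
prune_inst 0x7f00000000000000000000000000000000000000000000000000000000000000000000000000000000000000000000000000000000000000000000000000000000000000000000000000000000000000003fffffffffffffffffffffffffffbeffbdffffffff
open scoped Cfsg.Agent.FastGrp

/-!
# Traces and orders of explicit elements of `Co0`
-/

set_option autoImplicit false

namespace Cfsg.Agent.H388.CoMat

open Cfsg Cfsg.Agent.SporadicA Cfsg.Agent.SporadicStructure Cfsg.Agent.SporadicStructure.Co0Matrix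
  Cfsg.Agent.CoOneType.CoEval Cfsg.Agent.Co2Type.Mono

/-- the list of `8 e_i` -/
def eL (i : ℕ) : List ℤ := (List.range 24).map fun j => if j = i then 8 else 0

/-- eight times the trace of the `n`-th power -/
def trL (R : List (List ℤ)) (n : ℕ) : ℤ :=
  ((List.range 24).map fun i => (fold (fun _ => R) (List.replicate n 0) (eL i)).getD i 0).sum

theorem e8_vec (i : GolayPt) : ((Co0Base.e8 i : leechLattice) : GolayPt → ℤ) = vec (eL (GolayBase.idx i)) := by
  funext p
  rw [Co0Base.e8_coe, eL, getD_range_map, Pi.single_apply]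
  by_cases h : p = i
  · rw [if_pos h, if_pos (by rw [h])]
  · rw [if_neg h, if_neg (fun h2 => h (GolayBase.idx_injective h2))]

theorem eL_length (i : ℕ) : (eL i).length ≤ 24 := by
  rw [eL, List.length_map, List.length_range]

theorem tr8_pow {g : Co0} {R : List (List ℤ)} (h : Rep g R) (n : ℕ) : tr8 (g ^ n) = trL R n := by
  unfold tr8 trL
  rw [GolayBase.sum_pt]
  have h1 : ∀ i ∈ Finset.range 24, ((g ^ n • Co0Base.e8 (GolayBase.pt i) : leechLattice) : GolayPt → ℤ)
      (GolayBase.pt i) = (fold (fun _ => R) (List.replicate n 0) (eL i)).getD i 0 := by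
    intro i hi
    have hi' := Finset.mem_range.1 hi
    have h2 := (fold_spec (e := fun _ => g) (M := fun _ => R) (fun _ => h) (List.replicate n 0)
      (eL_length i) (v := Co0Base.e8 (GolayBase.pt i)) (by rw [e8_vec, GolayBase.idx_pt hi'])).2
    rw [List.map_replicate, List.prod_replicate] at h2
    change ((g ^ n • Co0Base.e8 (GolayBase.pt i) : leechLattice) : GolayPt → ℤ) = _ at h2
    rw [h2, vec_apply, GolayBase.idx_pt hi']
  rw [Finset.sum_congr rfl h1]
  exact Multiset.sum_coe _

/-- order in `Co1` -/
theorem order_pr {g : Co0} {R : List (List ℤ)} (h : Rep g R) {n : ℕ} (hn : 0 < n)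
    (h1 : relB (fun _ => R) (List.replicate n 0) = true)
    (h2 : ∀ p ∈ n.primeFactors, neB (fun _ => R) (List.replicate (n / p) 0) = true) :
    orderOf (pr g) = n := by
  have key : ∀ k, ((List.replicate k 0).map fun i : ℕ => pr ((fun _ => g) i)).prod = pr g ^ k := by
    intro k
    rw [List.map_replicate, List.prod_replicate]
  apply orderOf_eq_of_pow_and_pow_div_prime hn
  · rw [← key]
    exact eq_one_of_relB (e := fun _ => g) (fun _ => h) h1
  · intro p hp hd
    rw [← key]
    exact ne_one_of_neB (e := fun _ => g) (fun _ => h) (h2 p (Nat.mem_primeFactors.2 ⟨hp, hd, hn.ne'⟩))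

end Cfsg.Agent.H388.CoMat

private theorem dce_e258bb554737 : _root_.True := by
  try have : _root_.True := by simp only [_root_.Cfsg.Agent.H388.CoMat.eL.eq_1]
  exact _root_.True.intro
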